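import Groth.Agent.SchTorsor.Basic
import Groth.Prelude.Def_ChGrp
import Mathlib.CategoryTheory.Limits.Shapes.Pullback.IsPullback.Basic

/-! Torsors and exact sequences of group schemes. -/

universe u

open CategoryTheory CategoryTheory.Limits MonoidalCategory CartesianMonoidalCategory MonObj GrpObj AlgebraicGeometry
open Groth.Agent.SchTorsor Groth.Agent.GrpSchLib.TopDescent

set_option linter.style.haveILetI false

namespace Groth.Agent.H9ExactPush

variable {S : Scheme.{u}} {G G' G'' : Over S} [GrpObj G] [GrpObj G'] [GrpObj G'']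
  {u : G' ⟶ G} {v : G ⟶ G''}

theorem comp_v_eq_one [IsMonHom u] [IsMonHom v] (h : u ≫ v = 1) {T : Over S} (g' : T ⟶ G') :
    (g' ≫ u) ≫ v = 1 := by rw [Category.assoc, h, comp_one]

theorem existsUnique_kernel (hex : NonAbH1.IsExactSeq Scheme.fpqcPrecoverage u v) {T : Over S} (g h : T ⟶ G)
    (e : g ≫ v = h ≫ v) : ∃! g' : T ⟶ G', g * (g' ≫ u) = h := by
  obtain ⟨-, -, -, hP, -⟩ := hex
  have key : ∀ g' : T ⟶ G', lift g g' ≫ (G ◁ u) ≫ μ[G] = g * (g' ≫ u) := fun g' => by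
    rw [lift_whiskerLeft_assoc, ← Hom.mul_def]
  let m := hP.lift g h e
  have h1 : m ≫ fst G G' = g := hP.lift_fst _ _ _
  have h2 : m ≫ (G ◁ u) ≫ μ[G] = h := hP.lift_snd _ _ _
  have hm : lift g (m ≫ snd G G') = m := by
    rw [← h1, ← comp_lift, lift_fst_snd, Category.comp_id]
  refine ⟨m ≫ snd G G', ?_, fun g' hg' => ?_⟩
  · change g * ((m ≫ snd G G') ≫ u) = h
    rw [← key, hm, h2]
  · have : lift g g' = m := hP.hom_ext (by rw [lift_fst, h1]) (by rw [key, hg', h2])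
    rw [← this, lift_snd]

theorem u_injective (hex : NonAbH1.IsExactSeq Scheme.fpqcPrecoverage u v) {T : Over S} {g' h' : T ⟶ G'}
    (e : g' ≫ u = h' ≫ u) : g' = h' := by
  haveI := hex.1
  haveI := hex.2.1
  have hv : (1 : T ⟶ G) ≫ v = (g' ≫ u) ≫ v := by rw [comp_v_eq_one hex.2.2.1, MonObj.one_comp]
  obtain ⟨k, -, hu⟩ := existsUnique_kernel hex 1 (g' ≫ u) hv
  exact (hu g' (_root_.one_mul _)).trans (hu h' ((_root_.one_mul _).trans e.symm)).symm

section S6009

variable {Q : Over S} {a : AlgGrp.Action G' Q}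

theorem exists_pullback (hex : NonAbH1.IsExactSeq Scheme.fpqcPrecoverage u v)
    (ha : NonAbH1.IsTorsorFor Scheme.fpqcPrecoverage a)
    (i : Q ⟶ G) (hi : ∀ (T : Over S) (g' : T ⟶ G') (p : T ⟶ Q), lift g' p ≫ a.act ≫ i = (p ≫ i) * (g' ≫ u)⁻¹) :
    ∃ f : 𝟙_ (Over S) ⟶ G'', IsPullback i (toUnit Q) v f := by
  haveI := hex.1
  haveI := hex.2.1
  have hinv : a.act ≫ (i ≫ v) = snd G' Q ≫ (i ≫ v) := by
    apply AlgGrp.Action.hom_ext_lift₂
    intro T g' p
    have e := congrArg (· ≫ v) (hi T g' p)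
    simp only [Category.assoc] at e
    rw [e, lift_snd_assoc, MonObj.mul_comp, GrpObj.inv_comp, comp_v_eq_one hex.2.2.1, inv_one, _root_.mul_one,
      Category.assoc]
  obtain ⟨f, hf, -⟩ := existsUnique_desc ha (i ≫ v) hinv
  refine ⟨f, ?_⟩
  let k : Q ⟶ pullback v f := pullback.lift i (toUnit Q) hf.symm
  haveI : IsIso k := by
    refine isIso_of_mono_of_hasLocSec k (fun T q q' h => ?_) (hasLocSec_of_points k ha.2 fun T y q => ?_)
    · have h1 := congrArg (· ≫ pullback.fst v f) h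
      simp only [k, Category.assoc, pullback.lift_fst] at h1
      obtain ⟨g', rfl⟩ := exists_div ha.1 q q'
      rw [Category.assoc, hi, mul_eq_left, inv_eq_one] at h1
      rw [u_injective hex (h1.trans (MonObj.one_comp u).symm), one_act_pt]
    · have e : (q ≫ i) ≫ v = (y ≫ pullback.fst v f) ≫ v := by
        rw [Category.assoc, Category.assoc, pullback.condition, ← hf, ← Category.assoc q,
          ← Category.assoc y]
        exact congrArg (· ≫ f) (toUnit_unique _ _)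
      obtain ⟨g', hg', -⟩ := existsUnique_kernel hex _ _ e
      refine ⟨lift g'⁻¹ q ≫ a.act, pullback.hom_ext ?_ (toUnit_unique _ _)⟩
      rw [Category.assoc, Category.assoc, pullback.lift_fst, hi, GrpObj.inv_comp, _root_.inv_inv, hg']
  exact IsPullback.of_iso_pullback ⟨hf.symm⟩ (asIso k) (pullback.lift_fst _ _ _) (pullback.lift_snd _ _ _)

theorem pushforward_trivial_iff (hex : NonAbH1.IsExactSeq Scheme.fpqcPrecoverage u v)
    (ha : NonAbH1.IsTorsorFor Scheme.fpqcPrecoverage a) :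
    NonAbH1.IsPushforwardAlongSch u a (NonAbH1.trivialAction G) ↔
      ∃ (f : 𝟙_ (Over S) ⟶ G'') (i : Q ⟶ G), NonAbH1.IsPullbackTorsor u v f i a := by
  constructor
  · rintro ⟨φ, hφ⟩
    have hi : ∀ (T : Over S) (g' : T ⟶ G') (p : T ⟶ Q),
        lift g' p ≫ a.act ≫ φ⁻¹ = (p ≫ φ⁻¹) * (g' ≫ u)⁻¹ := fun T g' p => by
      rw [comp_inv, comp_inv, hφ, comp_inv, comp_lift_assoc, lift_fst_assoc, lift_snd_assoc]
      change (lift (g' ≫ u) (p ≫ φ) ≫ μ[G])⁻¹ = _
      rw [← Hom.mul_def, _root_.mul_inv_rev]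
    obtain ⟨f, hf⟩ := exists_pullback hex ha φ⁻¹ hi
    exact ⟨f, φ⁻¹, hex.1, hex.2.1, hf, hi⟩
  · rintro ⟨f, i, hu, hv, -, hi⟩
    refine ⟨i⁻¹, ?_⟩
    apply AlgGrp.Action.hom_ext_lift₂
    intro T g' p
    rw [comp_inv, comp_inv, hi, _root_.mul_inv_rev, _root_.inv_inv, comp_lift_assoc, lift_fst_assoc, lift_snd_assoc]
    change _ = lift (g' ≫ u) (p ≫ i⁻¹) ≫ μ[G]
    rw [← Hom.mul_def, comp_inv]

end S6009

section S6010

variable {P : Over S} {a : AlgGrp.Action G P}

theorem exists_torsor (hex : NonAbH1.IsExactSeq Scheme.fpqcPrecoverage u v)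
    (ha : NonAbH1.IsTorsorFor Scheme.fpqcPrecoverage a) (f : P ⟶ G'')
    (hf : ∀ (T : Over S) (g : T ⟶ G) (p : T ⟶ P), lift g p ≫ a.act ≫ f = (g ≫ v) * (p ≫ f)) :
    ∃ Q : NonAbH1.TorsorSch G' Scheme.fpqcPrecoverage, NonAbH1.IsPushforwardAlongSch u Q.act a := by
  haveI := hex.1
  haveI := hex.2.1
  let Z := pullback f η[G'']
  let j : Z ⟶ P := pullback.fst f η[G'']
  have hj : ∀ {T : Over S} (z : T ⟶ Z), (z ≫ j) ≫ f = 1 := fun z => by
    rw [Category.assoc, pullback.condition, ← Category.assoc, toUnit_unique (z ≫ _) (toUnit _)]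
    exact (Hom.one_def).symm
  have jmono : ∀ {T : Over S} (z z' : T ⟶ Z), z ≫ j = z' ≫ j → z = z' := fun z z' h =>
    pullback.hom_ext h (toUnit_unique _ _)
  let m : G' ⊗ Z ⟶ P := lift (fst G' Z ≫ u) (snd G' Z ≫ j) ≫ a.act
  have hm : m ≫ f = 1 := by
    rw [Category.assoc, hf, comp_v_eq_one hex.2.2.1, hj, _root_.mul_one]
  let act : G' ⊗ Z ⟶ Z := pullback.lift m (toUnit _) (hm.trans Hom.one_def)
  have hact : ∀ {T : Over S} (g' : T ⟶ G') (z : T ⟶ Z),
      (lift g' z ≫ act) ≫ j = lift (g' ≫ u) (z ≫ j) ≫ a.act := fun g' z => by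
    simp only [act, j, m, Category.assoc, pullback.lift_fst, comp_lift_assoc, lift_fst_assoc, lift_snd_assoc]
  let b : AlgGrp.Action G' Z :=
    { act := act
      one_act := by
        apply AlgGrp.Action.hom_ext_lift₂
        intro T e z
        rw [lift_whiskerRight_assoc, leftUnitor_hom, lift_snd, toUnit_unique e (toUnit T), ← Hom.one_def]
        refine jmono _ _ ?_
        rw [hact, MonObj.one_comp, one_act_pt]
      mul_act := by
        apply AlgGrp.Action.hom_ext_lift₃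
        intro T g h z
        rw [lift_whiskerRight_assoc, lift_lift_associator_hom_assoc, lift_whiskerLeft_assoc, ← Hom.mul_def]
        refine jmono _ _ ?_
        rw [hact, hact, hact, MonObj.mul_comp, act_assoc] }
  have hpseudo : NonAbH1.IsPseudoTorsorSch b := by
    refine isIso_of_mono_of_hasLocSec (lift b.act (snd G' Z)) (fun T p q h => ?_) ?_
    · have h2 := congrArg (· ≫ snd Z Z) h
      have h1 := congrArg (fun t => (t ≫ fst Z Z) ≫ j) h
      simp only [Category.assoc, lift_fst, lift_snd] at h1 h2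
      refine CartesianMonoidalCategory.hom_ext _ _ (u_injective hex ?_) h2
      refine act_free ha.1 (y := (q ≫ snd G' Z) ≫ j) ?_
      have ep : lift (p ≫ fst G' Z) (p ≫ snd G' Z) = p := by rw [← comp_lift, lift_fst_snd, Category.comp_id]
      have eq' : lift (q ≫ fst G' Z) (q ≫ snd G' Z) = q := by rw [← comp_lift, lift_fst_snd, Category.comp_id]
      rw [← hact, ← hact, ← h2, ep]
      conv_rhs => rw [h2, eq']
      simpa only [Category.assoc] using h1
    · refine ⟨⊤, GrothendieckTopology.top_mem _ _, fun T c _ => ?_⟩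
      let T' : Over S := Over.mk (c ≫ (Z ⊗ Z).hom)
      let cc : T' ⟶ Z ⊗ Z := Over.homMk c rfl
      let z := cc ≫ fst Z Z
      let z' := cc ≫ snd Z Z
      obtain ⟨g, hg⟩ := exists_div ha.1 (z ≫ j) (z' ≫ j)
      have e := congrArg (· ≫ f) hg
      rw [Category.assoc, hf, hj, hj, _root_.mul_one, ← MonObj.one_comp (X := T') v] at e
      obtain ⟨g', hg', -⟩ := existsUnique_kernel hex 1 g e.symm
      rw [_root_.one_mul] at hg'
      refine ⟨(lift g' z').left, ?_⟩
      have : lift g' z' ≫ lift b.act (snd G' Z) = cc := by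
        refine CartesianMonoidalCategory.hom_ext _ _ ?_ ?_
        · rw [Category.assoc, lift_fst]
          refine jmono _ _ ?_
          rw [hact, hg', hg]
        · rw [Category.assoc, lift_snd, lift_snd]
      exact congrArg CommaMorphism.left this
  have hloc : NonAbH1.IsLocallyTrivialFor Scheme.fpqcPrecoverage Z := by
    obtain ⟨R, hR, hsec⟩ := ha.2
    obtain ⟨R₂, hR₂, hsec₂⟩ := hex.2.2.2.2
    obtain ⟨J₁, U, e₁, rfl⟩ := R.exists_eq_ofArrows
    obtain ⟨J₂, W, e₂, rfl⟩ := R₂.exists_eq_ofArrows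
    choose s hs using fun i => hsec (e₁ i) (.mk i)
    choose t ht using fun k => hsec₂ (e₂ k) (.mk k)
    let σ : ∀ i, Over.mk (e₁ i) ⟶ P := fun i => Over.homMk (s i) (hs i)
    let c : ∀ i, U i ⟶ G''.left := fun i => (σ i ≫ f).left
    refine ⟨_, Precoverage.comp_mem_coverings e₁ hR (σ := fun _ => J₂)
      (fun i k => pullback.fst (c i) (e₂ k))
      (fun i => Precoverage.mem_coverings_of_isPullback e₂ hR₂ (c i) _ _
        (fun k => IsPullback.of_hasPullback (c i) (e₂ k))), ?_⟩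
    rintro _ _ ⟨i, k⟩
    let T : Over S := Over.mk (pullback.fst (c i) (e₂ k) ≫ e₁ i)
    let pi : T ⟶ Over.mk (e₁ i) := Over.homMk (pullback.fst (c i) (e₂ k)) rfl
    have hv' : (pullback.snd (c i) (e₂ k) ≫ t k) ≫ v.left = pullback.fst (c i) (e₂ k) ≫ c i := by
      rw [Category.assoc, pullback.condition]
      exact congrArg _ (ht k)
    let g : T ⟶ G := Over.homMk (pullback.snd (c i) (e₂ k) ≫ t k) (by
      rw [← Over.w v, ← Category.assoc, hv', Category.assoc, Over.w (σ i ≫ f)]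
      rfl)
    have hg : g ≫ v = (pi ≫ σ i) ≫ f := by
      rw [Category.assoc]
      exact Over.OverMorphism.ext hv'
    let q : T ⟶ P := lift g⁻¹ (pi ≫ σ i) ≫ a.act
    have hq : q ≫ f = toUnit T ≫ η[G''] := by
      rw [Category.assoc, hf, GrpObj.inv_comp, hg, inv_mul_cancel, Hom.one_def]
    exact ⟨(pullback.lift q (toUnit T) hq : T ⟶ Z).left, Over.w _⟩
  refine ⟨⟨Z, b, hpseudo, hloc⟩, j, ?_⟩
  exact pullback.lift_fst _ _ _

theorem pushforward_of_kernel (hex : NonAbH1.IsExactSeq Scheme.fpqcPrecoverage u v)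
    (ha : NonAbH1.IsTorsorFor Scheme.fpqcPrecoverage a) {Q : Over S} {b : AlgGrp.Action G' Q}
    (hb : NonAbH1.IsTorsorFor Scheme.fpqcPrecoverage b) (hQ : NonAbH1.IsPushforwardAlongSch u b a) :
    NonAbH1.IsPushforwardAlongSch v a (NonAbH1.trivialAction G'') := by
  haveI := hex.1
  haveI := hex.2.1
  obtain ⟨j, hj⟩ := hQ
  have hjp : ∀ {T : Over S} (g' : T ⟶ G') (q : T ⟶ Q),
      (lift g' q ≫ b.act) ≫ j = lift (g' ≫ u) (q ≫ j) ≫ a.act := fun g' q => by
    rw [Category.assoc, hj, comp_lift_assoc, lift_fst_assoc, lift_snd_assoc]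
  let π : G ⊗ Q ⟶ P := (G ◁ j) ≫ a.act
  have hπ : ∀ {T : Over S} (g : T ⟶ G) (q : T ⟶ Q), lift g q ≫ π = lift g (q ≫ j) ≫ a.act := fun g q => by
    simp [π]
  have hsec : HasLocSec Scheme.fpqcTopology π := hasLocSec_of_points π hb.2 fun T y q => by
    obtain ⟨g, hg⟩ := exists_div ha.1 y (q ≫ j)
    exact ⟨lift g q, (hπ g q).trans hg⟩
  obtain ⟨φ, hφ, -⟩ := hsec.existsUnique_desc (fst G Q ≫ v) (fun T x y h => by
    have ex : lift (x ≫ fst G Q) (x ≫ snd G Q) = x := by rw [← comp_lift, lift_fst_snd, Category.comp_id]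
    have ey : lift (y ≫ fst G Q) (y ≫ snd G Q) = y := by rw [← comp_lift, lift_fst_snd, Category.comp_id]
    rw [← ex, ← ey, hπ, hπ] at h
    obtain ⟨g', hg'⟩ := exists_div hb.1 (x ≫ snd G Q) (y ≫ snd G Q)
    rw [← hg', hjp, ← act_assoc] at h
    have h' := congrArg (· ≫ v) (act_free ha.1 h)
    simp only [MonObj.mul_comp, comp_v_eq_one hex.2.2.1, _root_.mul_one, Category.assoc] at h'
    exact h')
  refine ⟨φ, ?_⟩
  apply AlgGrp.Action.hom_ext_lift₂
  intro T g p
  rw [comp_lift_assoc, lift_fst_assoc, lift_snd_assoc]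
  change _ = lift (g ≫ v) (p ≫ φ) ≫ μ[G'']
  rw [← Hom.mul_def]
  obtain ⟨R, hR, hl⟩ := hsec
  refine Over.OverMorphism.ext (scheme_hom_ext (Scheme.fpqcTopology.pullback_stable p.left hR) fun T₁ c hc => ?_)
  obtain ⟨x, hx⟩ := hl _ hc
  let T' : Over S := Over.mk (c ≫ T.hom)
  let cc : T' ⟶ T := Over.homMk c rfl
  let xx : T' ⟶ G ⊗ Q := Over.homMk x (by
    rw [← Over.w π, ← Category.assoc, hx, Category.assoc, Over.w p]
    rfl)
  have hxx : xx ≫ π = cc ≫ p := Over.OverMorphism.ext hx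
  have ex : lift (xx ≫ fst G Q) (xx ≫ snd G Q) = xx := by rw [← comp_lift, lift_fst_snd, Category.comp_id]
  have hπφ : ∀ (g : T' ⟶ G) (q : T' ⟶ Q), (lift g (q ≫ j) ≫ a.act) ≫ φ = g ≫ v := fun g q => by
    rw [← hπ, Category.assoc, hφ, lift_fst_assoc]
  have hp : cc ≫ p = lift (xx ≫ fst G Q) ((xx ≫ snd G Q) ≫ j) ≫ a.act := by rw [← hπ, ex, hxx]
  have key : cc ≫ lift g p ≫ a.act ≫ φ = cc ≫ ((g ≫ v) * (p ≫ φ)) := by
    rw [comp_mul, comp_lift_assoc, ← Category.assoc cc p φ, hp, hπφ, ← Category.assoc (lift _ _) a.act φ,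
      ← act_assoc, hπφ, MonObj.mul_comp, Category.assoc]
  exact congrArg CommaMorphism.left key

end S6010

end Groth.Agent.H9ExactPush
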